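import Groth.Agent.Lib.FlatH4.FibreCritScheme
import Groth.Agent.Lib.FlatH4.SmoothFibres
import Groth.Agent.Lib.SchBasic.Basic
import Mathlib.AlgebraicGeometry.ZariskisMainTheorem
import Mathlib.AlgebraicGeometry.Morphisms.FlatRank
import Mathlib.AlgebraicGeometry.Morphisms.FlatDescent
import Mathlib.AlgebraicGeometry.Morphisms.QuasiFinite
import Mathlib.FieldTheory.IsAlgClosed.AlgebraicClosure

/-!
# A morphism of proper flat schemes which is an isomorphism on geometric fibres
-/

open CategoryTheory Limits AlgebraicGeometry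

set_option linter.style.haveILetI false
set_option backward.isDefEq.respectTransparency false

namespace Groth.Agent.Unital

universe u

theorem isIso_of_isIso_fibres {X Y S : Scheme.{u}} (f : X ⟶ Y) (g : Y ⟶ S) [IsSeparated g]
    [LocallyOfFiniteType g] [IsProper (f ≫ g)] [Flat (f ≫ g)] [LocallyOfFinitePresentation (f ≫ g)]
    (H : ∀ s : S, IsIso (pullback.snd f (g.fiberι s))) : IsIso f := by
  haveI : IsProper f := .of_comp f g
  haveI : Flat f := FlatH4.flat_of_fibres f g fun s => haveI := H s; inferInstance
  haveI : LocallyOfFinitePresentation f := SchBasic.locallyOfFinitePresentation_of_comp f g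
  have hpre : ∀ y, (f ⁻¹' {y}).Subsingleton := by
    intro y x₁ hx₁ x₂ hx₂
    haveI := H (g y)
    have hy : y ∈ Set.range (g.fiberι (g y)) := by rw [Scheme.Hom.range_fiberι]; rfl
    obtain ⟨z, hz⟩ := hy
    obtain ⟨w₁, hw₁, hw₁'⟩ := Scheme.Pullback.exists_preimage_pullback (f := f) (g := g.fiberι (g y)) x₁ z
      ((show f x₁ = y from hx₁).trans hz.symm)
    obtain ⟨w₂, hw₂, hw₂'⟩ := Scheme.Pullback.exists_preimage_pullback (f := f) (g := g.fiberι (g y)) x₂ z
      ((show f x₂ = y from hx₂).trans hz.symm)
    have : w₁ = w₂ := (pullback.snd f (g.fiberι (g y))).homeomorph.injective (hw₁'.trans hw₂'.symm)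
    rw [← hw₁, ← hw₂, this]
  haveI : LocallyQuasiFinite f := by
    rw [locallyQuasiFinite_iff_isDiscrete_preimage_singleton]
    intro y
    haveI : Subsingleton ↥(f ⁻¹' {y}) := Set.subsingleton_coe _ |>.2 (hpre y)
    exact ⟨inferInstance⟩
  haveI : IsFinite f := IsFinite.of_isProper_of_locallyQuasiFinite f
  rw [Scheme.Hom.isIso_iff_finrank_eq]
  ext y
  haveI := H (g y)
  have hy : y ∈ Set.range (g.fiberι (g y)) := by rw [Scheme.Hom.range_fiberι]; rfl
  obtain ⟨z, hz⟩ := hy
  rw [← hz, ← Scheme.Hom.finrank_pullback_snd, Scheme.Hom.finrank_eq_one_of_isIso, Pi.one_apply]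
  rfl

/-- Being an isomorphism on fibres can be tested over algebraically closed fields. -/
theorem isIso_fibre_of_geometric {X Y S : Scheme.{u}} (f : X ⟶ Y) (g : Y ⟶ S)
    (H : ∀ (K : Type u) [Field K] [IsAlgClosed K] (a : Spec (CommRingCat.of K) ⟶ S),
      IsIso (pullback.snd f (pullback.fst g a))) (s : S) : IsIso (pullback.snd f (g.fiberι s)) := by
  let K := AlgebraicClosure (S.residueField s)
  let ρ : Spec (CommRingCat.of K) ⟶ Spec (S.residueField s) :=
    Spec.map (CommRingCat.ofHom (algebraMap (S.residueField s) K))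
  let a := ρ ≫ S.fromSpecResidueField s
  let w : pullback g a ⟶ g.fiber s := pullback.lift (pullback.fst g a) (pullback.snd g a ≫ ρ)
    (by rw [Category.assoc]; exact pullback.condition)
  have hw1 : w ≫ g.fiberι s = pullback.fst g a := pullback.lift_fst _ _ _
  have hsq : IsPullback w (pullback.snd g a) (g.fiberToSpecResidueField s) ρ :=
    IsPullback.of_right (by rw [show w ≫ pullback.fst g (S.fromSpecResidueField s) = pullback.fst g a from hw1]; exact IsPullback.of_hasPullback g a) (pullback.lift_snd _ _ _)
      (IsPullback.of_hasPullback g (S.fromSpecResidueField s))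
  haveI : Flat w := MorphismProperty.of_isPullback (P := @Flat) hsq.flip inferInstance
  haveI : Surjective ρ :=
    ⟨Function.surjective_to_subsingleton (α := Spec (CommRingCat.of K)) (β := Spec (S.residueField s)) _⟩
  haveI : Surjective w := MorphismProperty.of_isPullback (P := @Surjective) hsq.flip inferInstance
  haveI : QuasiCompact w := MorphismProperty.of_isPullback (P := @QuasiCompact) hsq.flip inferInstance
  let F := pullback.snd f (g.fiberι s)
  have hbig : IsPullback (pullback.fst f (pullback.fst g a)) (pullback.snd f (pullback.fst g a)) f (w ≫ g.fiberι s) := by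
    rw [hw1]; exact IsPullback.of_hasPullback _ _
  let l : pullback f (pullback.fst g a) ⟶ pullback f (g.fiberι s) :=
    pullback.lift (pullback.fst f _) (pullback.snd f _ ≫ w) (by rw [Category.assoc, hw1]; exact pullback.condition)
  have hl : IsPullback l (pullback.snd f (pullback.fst g a)) F w :=
    IsPullback.of_right (by rw [pullback.lift_fst]; exact hbig) (pullback.lift_snd _ _ _)
      (IsPullback.of_hasPullback f (g.fiberι s))
  refine MorphismProperty.of_pullback_snd_of_descendsAlong (P := MorphismProperty.isomorphisms Scheme)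
    (Q := @Surjective ⊓ @Flat ⊓ @QuasiCompact) (f := F) (g := w) ⟨⟨inferInstance, inferInstance⟩, inferInstance⟩ ?_
  show IsIso (pullback.snd F w)
  haveI := H K a
  rw [← hl.isoPullback_inv_snd]
  infer_instance

end Groth.Agent.Unital
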