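import Groth.Agent.Lib.RigidRel.Unital.Field
import Groth.Agent.Lib.RigidRel.Unital.Fibres
import Groth.Agent.Lib.RigidRel.AbSch
import Mathlib.CategoryTheory.Monoidal.Cartesian.Over

/-!
# A unital multiplication on a proper flat family of varieties is a group law
-/

open CategoryTheory Limits AlgebraicGeometry MonoidalCategory CartesianMonoidalCategory MonObj
open CategoryTheory.Functor.LaxMonoidal CategoryTheory.Functor.OplaxMonoidal

set_option linter.style.haveILetI false
set_option backward.isDefEq.respectTransparency false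

namespace Groth.Agent.Unital

universe u

variable {S : Scheme.{u}} (X : Over S) [IsProper X.hom] [Flat X.hom] [LocallyOfFinitePresentation X.hom]
  [GeometricallyIntegral X.hom] (e : 𝟙_ (Over S) ⟶ X) (m : X ⊗ X ⟶ X)
  (h₁ : lift (𝟙 X) (toUnit X ≫ e) ≫ m = 𝟙 X) (h₂ : lift (toUnit X ≫ e) (𝟙 X) ≫ m = 𝟙 X)

include h₁ h₂ in
theorem isIso_shear_left_of_isAlgClosed (K : Type u) [Field K] [IsAlgClosed K]
    (a : Spec (CommRingCat.of K) ⟶ S) :
    IsIso (pullback.snd (shear m).left (pullback.fst (X ⊗ X).hom a)) := by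
  let F := Over.pullback a
  let Y := F.obj X
  haveI : IsProper Y.hom := inferInstanceAs (IsProper (pullback.snd X.hom a))
  haveI : GeometricallyIntegral Y.hom := inferInstanceAs (GeometricallyIntegral (pullback.snd X.hom a))
  let e' : 𝟙_ _ ⟶ Y := Functor.LaxMonoidal.ε F ≫ F.map e
  let m' : Y ⊗ Y ⟶ Y := Functor.LaxMonoidal.μ F X X ≫ F.map m
  have ht : F.map (toUnit X) = toUnit Y ≫ Functor.LaxMonoidal.ε F := by
    rw [← cancel_mono (Functor.Monoidal.εIso F).inv]
    exact toUnit_unique _ _
  have hl : ∀ {A : Over S} (p q : A ⟶ X), lift (F.map p) (F.map q) ≫ Functor.LaxMonoidal.μ F X X = F.map (lift p q) := by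
    intro A p q
    rw [← cancel_mono (Functor.Monoidal.μIso F X X).inv]
    apply CartesianMonoidalCategory.hom_ext
    · simp [← CategoryTheory.Functor.map_comp]
    · simp [← CategoryTheory.Functor.map_comp]
  have h₁' : lift (𝟙 Y) (toUnit Y ≫ e') ≫ m' = 𝟙 Y := by
    have := congrArg (fun t => F.map t) h₁
    simp only [CategoryTheory.Functor.map_comp, CategoryTheory.Functor.map_id] at this
    rw [← hl, CategoryTheory.Functor.map_id, CategoryTheory.Functor.map_comp, ht] at this
    simpa [m', e'] using this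
  have h₂' : lift (toUnit Y ≫ e') (𝟙 Y) ≫ m' = 𝟙 Y := by
    have := congrArg (fun t => F.map t) h₂
    simp only [CategoryTheory.Functor.map_comp, CategoryTheory.Functor.map_id] at this
    rw [← hl, CategoryTheory.Functor.map_id, CategoryTheory.Functor.map_comp, ht] at this
    simpa [m', e'] using this
  haveI := isIso_shear Y e' m' h₁' h₂'
  have hc : F.map (shear m) = (Functor.Monoidal.μIso F X X).inv ≫ shear m' ≫ (Functor.Monoidal.μIso F X X).hom := by
    rw [← cancel_mono (Functor.Monoidal.μIso F X X).inv]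
    apply CartesianMonoidalCategory.hom_ext
    · simp [shear, m', ← CategoryTheory.Functor.map_comp]
    · simp [shear, ← CategoryTheory.Functor.map_comp]
  haveI : IsIso (shear m') := by
    haveI : IsIso ((Over.forget _).map (shear m')) := ‹IsIso (shear m').left›
    exact isIso_of_reflects_iso _ (Over.forget _)
  haveI : IsIso (F.map (shear m)) := by rw [hc]; infer_instance
  have hsq : IsPullback (pullback.fst (X ⊗ X).hom a) (F.map (shear m)).left (shear m).left
      (pullback.fst (X ⊗ X).hom a) := by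
    refine IsPullback.of_bot ?_ ?_ (IsPullback.of_hasPullback (X ⊗ X).hom a)
    · have h1 : (shear m).left ≫ (X ⊗ X).hom = (X ⊗ X).hom := Over.w _
      have h2 : (F.map (shear m)).left ≫ pullback.snd (X ⊗ X).hom a = pullback.snd (X ⊗ X).hom a :=
        Over.w (F.map (shear m))
      rw [h1, h2]
      exact IsPullback.of_hasPullback _ _
    · simp [F]
  rw [← hsq.isoPullback_inv_snd]
  haveI : IsIso (F.map (shear m)).left := inferInstanceAs (IsIso ((Over.forget _).map (F.map (shear m))))
  infer_instance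

include h₁ h₂ in
theorem isIso_shear_of_base : IsIso (shear m) := by
  haveI : IsProper (X ⊗ X).hom := inferInstanceAs (IsProper (pullback.fst X.hom X.hom ≫ X.hom))
  haveI : Flat (X ⊗ X).hom := inferInstanceAs (Flat (pullback.fst X.hom X.hom ≫ X.hom))
  haveI : LocallyOfFinitePresentation (X ⊗ X).hom :=
    inferInstanceAs (LocallyOfFinitePresentation (pullback.fst X.hom X.hom ≫ X.hom))
  have hw : (shear m).left ≫ (X ⊗ X).hom = (X ⊗ X).hom := Over.w _
  haveI : IsProper ((shear m).left ≫ (X ⊗ X).hom) := by rw [hw]; infer_instance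
  haveI : Flat ((shear m).left ≫ (X ⊗ X).hom) := by rw [hw]; infer_instance
  haveI : LocallyOfFinitePresentation ((shear m).left ≫ (X ⊗ X).hom) := by rw [hw]; infer_instance
  haveI : IsIso ((Over.forget S).map (shear m)) :=
    isIso_of_isIso_fibres (shear m).left (X ⊗ X).hom
      (isIso_fibre_of_geometric _ _ fun K _ _ a => isIso_shear_left_of_isAlgClosed X e m h₁ h₂ K a)
  exact isIso_of_reflects_iso _ (Over.forget S)

theorem geometricallyConnected_of_geometricallyIntegral {A B : Scheme.{u}} (f : A ⟶ B) [GeometricallyIntegral f] :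
    GeometricallyConnected f := ⟨fun K _ y Z fst snd hpb => by
  haveI : IsIntegral Z := GeometricallyIntegral.geometrically_isIntegral y fst snd hpb
  infer_instance⟩

include h₁ h₂ in
theorem exists_grpObj : ∃ h : GrpObj X, h.one = e ∧ h.mul = m := by
  haveI := geometricallyConnected_of_geometricallyIntegral X.hom
  haveI : GeometricallyConnected (X ⊗ X).hom := by
    show GeometricallyConnected (pullback.fst X.hom X.hom ≫ X.hom)
    exact GeometricallyConnected.comp _ _
  haveI := isIso_shear_of_base X e m h₁ h₂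
  let d : X ⊗ X ⟶ X := inv (shear m) ≫ fst X X
  let M : ∀ {V : Over S}, (V ⟶ X) → (V ⟶ X) → (V ⟶ X) := fun a b => lift a b ≫ m
  let D : ∀ {V : Over S}, (V ⟶ X) → (V ⟶ X) → (V ⟶ X) := fun a b => lift a b ≫ d
  have hid : d = inv (shear m) ≫ fst X X := rfl
  have hdm : ∀ {V : Over S} (a b : V ⟶ X), D (M a b) b = a := fun a b => by
    show lift (lift a b ≫ m) b ≫ d = a
    rw [show lift (lift a b ≫ m) b = lift a b ≫ shear m by rw [comp_lift, lift_snd], hid, Category.assoc,
      IsIso.hom_inv_id_assoc, lift_fst]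
  have hsnd : inv (shear m) ≫ snd X X = snd X X := by
    rw [IsIso.inv_comp_eq, lift_snd]
  have hmd : ∀ {V : Over S} (w b : V ⟶ X), M (D w b) b = w := fun w b => by
    show lift (lift w b ≫ d) b ≫ m = w
    have : lift (lift w b ≫ d) b = lift w b ≫ inv (shear m) := by
      apply CartesianMonoidalCategory.hom_ext
      · simp [hid]
      · simp [hsnd]
    rw [this, Category.assoc, show inv (shear m) ≫ m = fst X X by rw [IsIso.inv_comp_eq, lift_fst], lift_fst]
  have hMe : ∀ {V : Over S} (a : V ⟶ X), M a (toUnit V ≫ e) = a := fun {V} a => by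
    show lift a (toUnit V ≫ e) ≫ m = a
    rw [show lift a (toUnit V ≫ e) = a ≫ lift (𝟙 X) (toUnit X ≫ e) by
      rw [comp_lift, Category.comp_id, ← Category.assoc, comp_toUnit], Category.assoc, h₁, Category.comp_id]
  have heM : ∀ {V : Over S} (a : V ⟶ X), M (toUnit V ≫ e) a = a := fun {V} a => by
    show lift (toUnit V ≫ e) a ≫ m = a
    rw [show lift (toUnit V ≫ e) a = a ≫ lift (toUnit X ≫ e) (𝟙 X) by
      rw [comp_lift, Category.comp_id, ← Category.assoc, comp_toUnit], Category.assoc, h₂, Category.comp_id]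
  have hpre : ∀ {V W : Over S} (g : V ⟶ W) (a b : W ⟶ X), g ≫ M a b = M (g ≫ a) (g ≫ b) := fun g a b => by
    show g ≫ lift a b ≫ m = _
    rw [← Category.assoc, comp_lift]
  have hpreD : ∀ {V W : Over S} (g : V ⟶ W) (a b : W ⟶ X), g ≫ D a b = D (g ≫ a) (g ≫ b) := fun g a b => by
    show g ≫ lift a b ≫ d = _
    rw [← Category.assoc, comp_lift]
  have htu : ∀ {V W : Over S} (g : V ⟶ W), g ≫ toUnit W ≫ e = toUnit V ≫ e := fun g => by
    rw [← Category.assoc, comp_toUnit]
  -- associativity by rigidity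
  let Q := X ⊗ (X ⊗ X)
  let z₀ : Q ⟶ X := fst X (X ⊗ X)
  let a₀ : Q ⟶ X := snd X (X ⊗ X) ≫ fst X X
  let b₀ : Q ⟶ X := snd X (X ⊗ X) ≫ snd X X
  let f : Q ⟶ X := D (M a₀ (M b₀ z₀)) z₀
  have hf := RigidRel.eq_snd_comp_of_slice X (X ⊗ X) X f e (lift e e) e (by
    simp only [f, a₀, b₀, z₀, hpre, hpreD, lift_fst, lift_snd_assoc, Category.assoc, lift_fst_assoc]
    rw [show toUnit X ≫ lift e e ≫ snd X X = toUnit X ≫ e by rw [lift_snd], heM, heM]
    conv_lhs => arg 1; rw [← heM (𝟙 X)]
    exact hdm _ _)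
  have hassoc : ∀ {V : Over S} (a b c : V ⟶ X), M (M a b) c = M a (M b c) := by
    intro V a b c
    have h := congrArg (fun t => lift c (lift a b) ≫ t) hf
    simp only [f, a₀, b₀, z₀, hpre, hpreD, lift_fst, lift_snd_assoc, lift_fst_assoc, Category.assoc,
      comp_lift_assoc] at h
    simp only [← Category.assoc, comp_lift, lift_fst, lift_snd, Category.comp_id, comp_toUnit] at h
    rw [hMe] at h
    conv_rhs at h => arg 1; rw [← hMe (M a b)]
    rw [hdm] at h
    conv_lhs => rw [← h]
    exact hmd _ _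
  let iv : X ⟶ X := D (toUnit X ≫ e) (𝟙 X)
  have hinv : ∀ {V : Over S} (a : V ⟶ X), M (a ≫ iv) a = toUnit V ≫ e := fun {V} a => by
    simp only [iv, hpreD, htu, Category.comp_id]
    exact hmd _ _
  have hinv' : ∀ {V : Over S} (a : V ⟶ X), M a (a ≫ iv) = toUnit V ≫ e := fun {V} a => by
    calc M a (a ≫ iv) = M (toUnit V ≫ e) (M a (a ≫ iv)) := (heM _).symm
      _ = M (M ((a ≫ iv) ≫ iv) (a ≫ iv)) (M a (a ≫ iv)) := by rw [hinv]
      _ = M ((a ≫ iv) ≫ iv) (M (M (a ≫ iv) a) (a ≫ iv)) := by rw [hassoc, hassoc (a ≫ iv)]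
      _ = M ((a ≫ iv) ≫ iv) (a ≫ iv) := by rw [hinv, heM]
      _ = toUnit V ≫ e := hinv _
  refine ⟨{ one := e, mul := m, one_mul := ?_, mul_one := ?_, mul_assoc := ?_,
            inv := iv, left_inv := ?_, right_inv := ?_ }, rfl, rfl⟩
  · rw [show e ▷ X = lift (toUnit _ ≫ e) (snd (𝟙_ (Over S)) X) by
      apply CartesianMonoidalCategory.hom_ext
      · simp [toUnit_unique (toUnit (𝟙_ (Over S) ⊗ X)) (fst _ _)]
      · simp]
    exact (heM _).trans (leftUnitor_hom X).symm
  · rw [show X ◁ e = lift (fst X (𝟙_ (Over S))) (toUnit _ ≫ e) by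
      apply CartesianMonoidalCategory.hom_ext
      · simp
      · simp [toUnit_unique (toUnit (X ⊗ 𝟙_ (Over S))) (snd _ _)]]
    exact (hMe _).trans (rightUnitor_hom X).symm
  · have h := hassoc (fst (X ⊗ X) X ≫ fst X X) (fst (X ⊗ X) X ≫ snd X X) (snd (X ⊗ X) X)
    refine Eq.trans ?_ (h.trans ?_)
    · show _ = lift (lift (fst (X ⊗ X) X ≫ fst X X) (fst (X ⊗ X) X ≫ snd X X) ≫ m) (snd (X ⊗ X) X) ≫ m
      congr 1
      apply CartesianMonoidalCategory.hom_ext
      · rw [whiskerRight_fst, lift_fst, ← comp_lift, lift_fst_snd, Category.comp_id]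
      · simp
    · show lift (fst (X ⊗ X) X ≫ fst X X) (lift (fst (X ⊗ X) X ≫ snd X X) (snd (X ⊗ X) X) ≫ m) ≫ m = _
      rw [← Category.assoc (α_ X X X).hom]
      congr 1
      apply CartesianMonoidalCategory.hom_ext
      · simp
      · simp only [lift_snd, Category.assoc, whiskerLeft_snd]
        rw [← Category.assoc (α_ X X X).hom]
        congr 1
        apply CartesianMonoidalCategory.hom_ext <;> simp
  · have h := hinv (𝟙 X); rw [Category.id_comp] at h; exact h
  · have h := hinv' (𝟙 X); rw [Category.id_comp] at h; exact h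

end Groth.Agent.Unital
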