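import Groth.Agent.Lib.RigidRel.Unital.Finite
import Groth.Agent.Lib.AbRigid.Isogeny
import Groth.Agent.Lib.AbRigid.Epi
import Groth.Agent.Lib.Cartier.Smooth
import Groth.Agent.Lib.Descend.BaseChangeAt
import Groth.Agent.Lib.SmoothReg17.Basic
import Groth.Agent.S2347

/-!
# The shearing map of a unital multiplication on a proper variety is an isomorphism
-/

open CategoryTheory Limits AlgebraicGeometry MonoidalCategory CartesianMonoidalCategory MonObj

set_option linter.style.haveILetI false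
set_option backward.isDefEq.respectTransparency false

namespace Groth.Agent.Unital

universe u v

section General

variable {C : Type v} [Category.{u} C] [CartesianMonoidalCategory C] {X : C} (m : X ⊗ X ⟶ X)

/-- The shearing map `(x, y) ↦ (m (x, y), y)`. -/
abbrev shear : X ⊗ X ⟶ X ⊗ X := lift m (snd X X)

/-- Over the slice at `y` the shearing map is `x ↦ m (x, y)`. -/
theorem isPullback_slice (y : 𝟙_ C ⟶ X) :
    IsPullback (lift (𝟙 X) (toUnit X ≫ y)) (lift (𝟙 X) (toUnit X ≫ y) ≫ m) (shear m)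
      (lift (𝟙 X) (toUnit X ≫ y)) := by
  refine ⟨⟨?_⟩, ⟨PullbackCone.IsLimit.mk _ (fun s => s.fst ≫ fst X X) (fun s => ?_) (fun s => ?_) ?_⟩⟩
  · apply CartesianMonoidalCategory.hom_ext
    · simp [shear, Category.assoc, comp_lift]
    · simp only [shear, Category.assoc, lift_snd]
      rw [← Category.assoc (lift _ _) m, ← Category.assoc _ (toUnit X) y]
      exact congrArg (· ≫ y) (toUnit_unique _ _)
  · have h := congrArg (fun a => a ≫ snd X X) s.condition
    simp only [shear, Category.assoc, lift_snd] at h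
    apply CartesianMonoidalCategory.hom_ext
    · simp
    · simp only [Category.assoc, lift_snd]
      rw [h, ← Category.assoc (fst X X), comp_toUnit, ← Category.assoc, comp_toUnit, ← Category.assoc,
        comp_toUnit]
  · have h1 := congrArg (fun a => a ≫ fst X X) s.condition
    have h2 := congrArg (fun a => a ≫ snd X X) s.condition
    simp only [shear, Category.assoc, lift_fst, lift_snd, Category.comp_id] at h1 h2
    rw [← h1]
    simp only [← Category.assoc]
    refine congrArg (· ≫ m) ?_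
    apply CartesianMonoidalCategory.hom_ext
    · simp
    · simp only [Category.assoc, lift_snd]
      rw [h2, ← Category.assoc (fst X X), comp_toUnit, ← Category.assoc, comp_toUnit, ← Category.assoc,
        comp_toUnit]
  · intro s l h1 h2
    have := congrArg (fun a => a ≫ fst X X) h1
    simpa using this

end General

variable {K : Type u} [Field K] [IsAlgClosed K]

local notation "pt" => IsLocalRing.closedPoint K

/-- Translations have finite fibres over closed points. -/
theorem finite_fibre_slice (X : Over (Spec (CommRingCat.of K))) [IsProper X.hom] [GeometricallyIntegral X.hom]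
    (e : 𝟙_ _ ⟶ X) (m : X ⊗ X ⟶ X) (h₁ : lift (𝟙 X) (toUnit X ≫ e) ≫ m = 𝟙 X)
    (y : 𝟙_ _ ⟶ X) (w : X.left) (hw : IsClosed ({w} : Set X.left)) :
    ((lift (𝟙 X) (toUnit X ≫ y) ≫ m).left ⁻¹' {w}).Finite := by
  haveI : IsLocallyNoetherian X.left := LocallyOfFiniteType.isLocallyNoetherian X.hom
  haveI : CompactSpace X.left := QuasiCompact.compactSpace_of_compactSpace X.hom
  haveI : IsNoetherian X.left := {}
  set a := lift (𝟙 X) (toUnit X ≫ y) ≫ m
  set F : TopologicalSpace.Closeds X.left := ⟨a.left ⁻¹' {w}, hw.preimage a.left.continuous⟩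
  obtain ⟨S, hSfin, hSi, hSc, hS⟩ := TopologicalSpace.NoetherianSpace.exists_finite_set_isClosed_irreducible
    F.isClosed
  change (F : Set X.left).Finite
  rw [hS]
  refine hSfin.sUnion fun Z hZ => ?_
  suffices Z.Subsingleton from this.finite
  intro z₁ hz₁ z₂ hz₂
  let Zs := (Scheme.IdealSheafData.vanishingIdeal (⟨Z, hSi Z hZ⟩ : TopologicalSpace.Closeds X.left)).subscheme
  let ιZ := (Scheme.IdealSheafData.vanishingIdeal (⟨Z, hSi Z hZ⟩ : TopologicalSpace.Closeds X.left)).subschemeι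
  haveI : IsReduced Zs := RedSepLib.isReduced_vanishingIdeal_subscheme _
  have hrange : Set.range ιZ = Z := by
    rw [Scheme.IdealSheafData.range_subschemeι, Scheme.IdealSheafData.coe_support_vanishingIdeal]
    rfl
  haveI : IrreducibleSpace Zs := by
    have hirr : IsIrreducible (Set.univ : Set Zs) := by
      have h := hSc Z hZ
      refine ⟨⟨(hrange.ge hz₁).choose, trivial⟩, ?_⟩
      intro U V hU hV hU' hV'
      obtain ⟨U', hU'o, rfl⟩ := ιZ.isClosedEmbedding.isInducing.isOpen_iff.1 hU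
      obtain ⟨V', hV'o, rfl⟩ := ιZ.isClosedEmbedding.isInducing.isOpen_iff.1 hV
      obtain ⟨x, -, hx⟩ := hU'
      obtain ⟨x', -, hx'⟩ := hV'
      obtain ⟨q, hq, hqUV⟩ := h.2 U' V' hU'o hV'o ⟨ιZ x, hrange.le ⟨x, rfl⟩, hx⟩ ⟨ιZ x', hrange.le ⟨x', rfl⟩, hx'⟩
      obtain ⟨q', rfl⟩ := hrange.ge hq
      exact ⟨q', trivial, hqUV⟩
    haveI : PreirreducibleSpace Zs := ⟨hirr.2⟩
    exact ⟨⟨hirr.1.some⟩⟩
  haveI : IsIntegral Zs := isIntegral_of_irreducibleSpace_of_isReduced _
  let Zo : Over (Spec (CommRingCat.of K)) := Over.mk (ιZ ≫ X.hom)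
  let j : Zo ⟶ X := Over.homMk ιZ rfl
  haveI : IsProper Zo.hom := inferInstanceAs (IsProper (ιZ ≫ X.hom))
  haveI : IsIntegral Zo.left := ‹IsIntegral Zs›
  haveI : IsReduced Zo.left := inferInstance
  haveI : IsLocallyNoetherian Zo.left := LocallyOfFiniteType.isLocallyNoetherian Zo.hom
  haveI : IsIntegral (Zo ⊗ X).left := inferInstanceAs (IsIntegral (pullback Zo.hom X.hom))
  haveI : JacobsonSpace Zo.left := LocallyOfFiniteType.jacobsonSpace (Y := Spec _) Zo.hom
  obtain ⟨z, -, hzc⟩ := nonempty_inter_closedPoints (Z := (Set.univ : Set Zo.left))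
    ⟨(hrange.ge hz₁).choose, trivial⟩ isClosed_univ.isLocallyClosed
  obtain ⟨z₀, -⟩ := exists_point Zo z hzc
  obtain ⟨w', hw'⟩ := exists_point X w hw
  let h : Zo ⊗ X ⟶ X := (j ⊗ₘ 𝟙 X) ≫ m
  have hy : AbRigid.slice y ≫ h = j ≫ a := by
    simp only [AbRigid.slice, h, a, lift_map_assoc, Category.comp_id, Category.id_comp, comp_lift_assoc]
    rw [← Category.assoc j, comp_toUnit]
  have hconst : AbRigid.slice y ≫ h = toUnit Zo ≫ w' := by
    refine eq_toUnit_comp_of_closedPoints Zo X _ w' fun x _ => ?_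
    rw [hy, Over.comp_left, Scheme.Hom.comp_apply, hw']
    have : ιZ x ∈ (F : Set X.left) := by rw [hS]; exact ⟨Z, hZ, hrange.le ⟨x, rfl⟩⟩
    exact this
  have hrig := AbRigid.rigidity_of_isAlgClosed Zo X X h z₀ y w' hconst
  have he : lift (𝟙 Zo) (toUnit Zo ≫ e) ≫ h = j := by
    simp only [h, lift_map_assoc, Category.comp_id, Category.id_comp]
    calc lift j (toUnit Zo ≫ e) ≫ m = (j ≫ lift (𝟙 X) (toUnit X ≫ e)) ≫ m := by
          rw [comp_lift, Category.comp_id, ← Category.assoc j, comp_toUnit]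
      _ = j := by rw [Category.assoc, h₁, Category.comp_id]
  have hj : j = toUnit Zo ≫ (e ≫ lift (toUnit X ≫ z₀) (𝟙 X) ≫ h) := by
    conv_lhs => rw [← he, hrig]
    rw [lift_snd_assoc, Category.assoc]
  obtain ⟨x₁, rfl⟩ := hrange.ge hz₁
  obtain ⟨x₂, rfl⟩ := hrange.ge hz₂
  have key := fun x : Zo.left => congrArg (fun φ : Zo ⟶ X => φ.left x) hj
  refine (key x₁).trans (Eq.trans ?_ (key x₂).symm)
  simp only [Over.comp_left, Scheme.Hom.comp_apply]
  rw [Subsingleton.elim (α := PrimeSpectrum K) ((toUnit Zo).left x₁) ((toUnit Zo).left x₂)]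

theorem left_comp_apply {A B D : Over (Spec (CommRingCat.of K))} (f : A ⟶ B) (g : B ⟶ D) (p : A.left) :
    (f ≫ g).left p = g.left (f.left p) := by
  rw [Over.comp_left, Scheme.Hom.comp_apply]

theorem finite_surjective_slice (X : Over (Spec (CommRingCat.of K))) [IsProper X.hom] [GeometricallyIntegral X.hom]
    (e : 𝟙_ _ ⟶ X) (m : X ⊗ X ⟶ X) (h₁ : lift (𝟙 X) (toUnit X ≫ e) ≫ m = 𝟙 X) (y : 𝟙_ _ ⟶ X) :
    IsFinite (lift (𝟙 X) (toUnit X ≫ y) ≫ m).left ∧ Surjective (lift (𝟙 X) (toUnit X ≫ y) ≫ m).left := by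
  haveI : IsIntegral X.left := GeometricallyIntegral.isIntegral_of_subsingleton X.hom
  haveI hf : IsFinite (lift (𝟙 X) (toUnit X ≫ y) ≫ m).left :=
    isFinite_of_closedPoints _ fun w hw => (finite_fibre_slice X e m h₁ y w hw).inter_of_left _
  exact ⟨hf, AbRigid.surjective_of_isFinite X X _ rfl⟩

set_option maxHeartbeats 1000000 in
/-- The shearing map is an isomorphism. -/
theorem isIso_shear (X : Over (Spec (CommRingCat.of K))) [IsProper X.hom] [GeometricallyIntegral X.hom]
    (e : 𝟙_ _ ⟶ X) (m : X ⊗ X ⟶ X) (h₁ : lift (𝟙 X) (toUnit X ≫ e) ≫ m = 𝟙 X)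
    (h₂ : lift (toUnit X ≫ e) (𝟙 X) ≫ m = 𝟙 X) : IsIso (shear m).left := by
  haveI : GeometricallyIntegral (X ⊗ X).hom := AbRigid.geometricallyIntegral_tensorObj X X
  haveI : IsProper (X ⊗ X).hom := inferInstanceAs (IsProper (pullback.fst X.hom X.hom ≫ X.hom))
  haveI : IsLocallyNoetherian X.left := LocallyOfFiniteType.isLocallyNoetherian X.hom
  haveI : IsLocallyNoetherian (X ⊗ X).left := LocallyOfFiniteType.isLocallyNoetherian (X ⊗ X).hom
  haveI : IsIntegral X.left := GeometricallyIntegral.isIntegral_of_subsingleton X.hom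
  haveI : IsIntegral (X ⊗ X).left := GeometricallyIntegral.isIntegral_of_subsingleton (X ⊗ X).hom
  haveI : JacobsonSpace X.left := LocallyOfFiniteType.jacobsonSpace (Y := Spec _) X.hom
  haveI : JacobsonSpace (X ⊗ X).left := LocallyOfFiniteType.jacobsonSpace (Y := Spec _) (X ⊗ X).hom
  -- finiteness
  haveI hfin : IsFinite (shear m).left := by
    refine isFinite_of_closedPoints _ fun q hq => ?_
    obtain ⟨c, hc⟩ := exists_point (X ⊗ X) q hq
    refine Set.Finite.subset ((finite_fibre_slice X e m h₁ (c ≫ snd X X) ((c ≫ fst X X).left pt) ?_).image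
      (lift (𝟙 X) (toUnit X ≫ c ≫ snd X X)).left) ?_
    · rw [left_comp_apply]
      haveI : IsProper (fst X X).left := inferInstanceAs (IsProper (pullback.fst X.hom X.hom))
      rw [← Set.image_singleton]
      exact (fst X X).left.isClosedMap _ (hc ▸ hq)
    rintro p ⟨hp, hpc⟩
    obtain ⟨a, ha⟩ := exists_point (X ⊗ X) p hpc
    have hac : a ≫ shear m = c := by
      refine (Over.forget _).map_injective ?_
      refine ext_of_apply_closedPoint_eq (K := K) (X ⊗ X).hom (Over.w (a ≫ shear m)) (Over.w c) ?_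
      show (a ≫ shear m).left pt = c.left pt
      rw [Over.comp_left, Scheme.Hom.comp_apply]
      exact (congrArg (shear m).left ha).trans ((show (shear m).left p = q from hp).trans hc.symm)
    have h3 : (a ≫ fst X X) ≫ lift (𝟙 X) (toUnit X ≫ c ≫ snd X X) = a := by
      rw [← hac, comp_lift, Category.comp_id, ← Category.assoc (a ≫ fst X X), comp_toUnit,
        toUnit_unique (toUnit (𝟙_ _)) (𝟙 _), Category.id_comp, Category.assoc, lift_snd, ← comp_lift,
        lift_fst_snd, Category.comp_id]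
    refine ⟨(a ≫ fst X X).left pt, ?_, ?_⟩
    · show (lift (𝟙 X) (toUnit X ≫ c ≫ snd X X) ≫ m).left ((a ≫ fst X X).left pt) = (c ≫ fst X X).left pt
      rw [← left_comp_apply, ← Category.assoc, h3]
      conv_rhs => rw [← hac, Category.assoc, lift_fst]
    · rw [← left_comp_apply, h3]
      exact ha
  haveI hsurj : Surjective (shear m).left := AbRigid.surjective_of_isFinite (X ⊗ X) (X ⊗ X) _ rfl
  -- the locus over which the shearing map is an isomorphism
  let W : (X ⊗ X).left.Opens :=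
    TopologicalSpace.Opens.mk (⋃ V ∈ {V : (X ⊗ X).left.Opens | IsIso ((shear m).left ∣_ V)}, (V : Set (X ⊗ X).left))
      (isOpen_biUnion fun V _ => V.isOpen)
  haveI hW : IsIso ((shear m).left ∣_ W) := by
    let 𝒰 := {V : (X ⊗ X).left.Opens | IsIso ((shear m).left ∣_ V)}
    have hle : ∀ V : 𝒰, (V : (X ⊗ X).left.Opens) ≤ W := fun V p hp => Set.mem_biUnion V.2 hp
    refine (IsZariskiLocalAtTarget.iff_of_iSup_eq_top (P := MorphismProperty.isomorphisms Scheme)
      (U := fun V : 𝒰 => W.ι ⁻¹ᵁ V.1) ?_).2 fun V => ?_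
    · refine top_le_iff.1 fun p _ => ?_
      obtain ⟨V, hV, hp⟩ := Set.mem_iUnion₂.1 p.2
      exact TopologicalSpace.Opens.mem_iSup.2 ⟨⟨V, hV⟩, hp⟩
    · have hV : MorphismProperty.isomorphisms Scheme ((shear m).left ∣_ V.1) := V.2
      rw [← (MorphismProperty.isomorphisms Scheme).arrow_mk_iso_iff
        (morphismRestrictRestrict (shear m).left W (W.ι ⁻¹ᵁ V.1)).symm]
      rwa [(W.ι.image_preimage_eq_opensRange_inf V.1).trans (by rw [Scheme.Opens.opensRange_ι, inf_eq_right]; exact hle V)]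
  have hslice : ∀ x ∈ closedPoints X.left, (lift (𝟙 X) (toUnit X ≫ e)).left x ∈ W := by
    intro x hx
    obtain ⟨a, ha⟩ := exists_point X x hx
    have hpb : IsPullback (a ≫ lift (𝟙 X) (toUnit X ≫ e)) (𝟙 _) (shear m) (a ≫ lift (𝟙 X) (toUnit X ≫ e)) := by
      have h := isPullback_slice m e
      rw [h₁] at h
      exact (IsPullback.of_vert_isIso ⟨by simp⟩).paste_horiz h
    haveI : IsIso (pullback.snd (shear m).left (a ≫ lift (𝟙 X) (toUnit X ≫ e)).left) := by
      have h := hpb.map (Over.forget _)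
      change IsIso (pullback.snd ((Over.forget _).map (shear m)) ((Over.forget _).map (a ≫ lift (𝟙 X) (toUnit X ≫ e))))
      rw [← h.isoPullback_inv_snd]
      haveI : IsIso ((Over.forget (Spec (CommRingCat.of K))).map (𝟙 (𝟙_ (Over (Spec (CommRingCat.of K)))))) := by
        infer_instance
      infer_instance
    obtain ⟨V, hV, hVi⟩ := exists_isIso_restrict (shear m).left (X ⊗ X).hom
      (a ≫ lift (𝟙 X) (toUnit X ≫ e)).left (Over.w _)
    have h2 : (a ≫ lift (𝟙 X) (toUnit X ≫ e)).left pt = (lift (𝟙 X) (toUnit X ≫ e)).left x := by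
      rw [left_comp_apply]; exact congrArg _ ha
    rw [← h2]
    exact Set.mem_biUnion hVi hV
  have hsliceall : ∀ x, (lift (𝟙 X) (toUnit X ≫ e)).left x ∈ W := by
    by_contra hne
    push_neg at hne
    obtain ⟨x, hx⟩ := hne
    obtain ⟨q, hq, hqc⟩ := nonempty_inter_closedPoints
      (Z := ((lift (𝟙 X) (toUnit X ≫ e)).left ⁻¹' (W : Set (X ⊗ X).left))ᶜ) ⟨x, hx⟩
      (W.isOpen.preimage (lift (𝟙 X) (toUnit X ≫ e)).left.continuous).isClosed_compl.isLocallyClosed
    exact hq (hslice q hqc)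
  haveI : IsProper (snd X X).left := inferInstanceAs (IsProper (pullback.snd X.hom X.hom))
  let U : X.left.Opens := ⟨((snd X X).left '' (W : Set (X ⊗ X).left)ᶜ)ᶜ,
    ((snd X X).left.isClosedMap _ W.isOpen.isClosed_compl).isOpen_compl⟩
  have heU : e.left pt ∈ U := by
    rintro ⟨p, hp, hpe⟩
    obtain ⟨x, rfl⟩ : ∃ x, (lift (𝟙 X) (toUnit X ≫ e)).left x = p := by
      have h : IsPullback (lift (𝟙 X) (toUnit X ≫ e)) (toUnit X) (snd X X) e := by
        refine ⟨⟨by simp⟩, ⟨PullbackCone.IsLimit.mk _ (fun s => s.fst ≫ fst X X) (fun s => ?_)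
          (fun s => toUnit_unique _ _) (fun s l h1 _ => ?_)⟩⟩
        · apply CartesianMonoidalCategory.hom_ext
          · simp
          · simp only [Category.assoc, lift_snd, s.condition]
            rw [← Category.assoc (fst X X), comp_toUnit, ← Category.assoc, comp_toUnit,
              toUnit_unique (toUnit s.pt) s.snd]
        · have := congrArg (fun a => a ≫ fst X X) h1
          simpa using this
      obtain ⟨x, hx, -⟩ := Scheme.exists_preimage_of_isPullback (h.map (Over.forget _)) p pt hpe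
      exact ⟨x, hx⟩
    exact hp (hsliceall x)
  -- translations by points of `U` are automorphisms
  have hiso : ∀ y : 𝟙_ _ ⟶ X, y.left pt ∈ U → IsIso (lift (𝟙 X) (toUnit X ≫ y) ≫ m).left := by
    intro y hy
    set σ := lift (𝟙 X) (toUnit X ≫ y)
    have hrange : Set.range σ.left ⊆ Set.range W.ι := by
      rintro _ ⟨x, rfl⟩
      rw [Scheme.Opens.range_ι]
      by_contra hx
      refine hy ⟨σ.left x, hx, ?_⟩
      rw [← left_comp_apply, lift_snd, left_comp_apply]
      exact congrArg y.left (Subsingleton.elim (α := PrimeSpectrum K) _ _)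
    let σ' := IsOpenImmersion.lift W.ι σ.left hrange
    have hbig : IsPullback σ.left (σ ≫ m).left (shear m).left σ.left :=
      (isPullback_slice m y).map (Over.forget _)
    have hrange' : Set.range σ.left ⊆ Set.range ((shear m).left ⁻¹ᵁ W).ι := by
      rintro _ ⟨x, rfl⟩
      rw [Scheme.Opens.range_ι]
      show (σ.left ≫ (shear m).left) x ∈ W
      rw [hbig.w, Scheme.Hom.comp_apply]
      exact (Scheme.Opens.range_ι W).le (hrange ⟨_, rfl⟩)
    have hl : IsPullback (IsOpenImmersion.lift _ σ.left hrange') (σ ≫ m).left ((shear m).left ∣_ W) σ' := by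
      refine IsPullback.of_right ?_ ?_ (isPullback_morphismRestrict (shear m).left W).flip
      · rw [IsOpenImmersion.lift_fac, IsOpenImmersion.lift_fac]
        exact hbig
      · rw [← cancel_mono W.ι, Category.assoc, morphismRestrict_ι, IsOpenImmersion.lift_fac_assoc, hbig.w,
          Category.assoc, IsOpenImmersion.lift_fac]
    exact MorphismProperty.of_isPullback (P := MorphismProperty.isomorphisms Scheme) hl hW
  -- smoothness
  let sm := X.hom.smoothLocus
  have hinv : ∀ y : 𝟙_ _ ⟶ X, y.left pt ∈ U → ∀ x, (lift (𝟙 X) (toUnit X ≫ y) ≫ m).left x ∈ sm ↔ x ∈ sm := by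
    intro y hy x
    haveI := hiso y hy
    have h := Scheme.Hom.preimage_smoothLocus_eq (lift (𝟙 X) (toUnit X ≫ y) ≫ m).left X.hom
    simp only [Over.w] at h
    exact SetLike.ext_iff.1 h x
  have hne : (sm : Set X.left).Nonempty := by
    refine ⟨genericPoint X.left, ?_⟩
    exact Cartier.mem_smoothLocus_of_isField_stalk X.hom _ (Field.toIsField X.left.functionField)
  have hUsm : ∀ V : X.left.Opens, (V : Set X.left).Nonempty →
      ∃ y : 𝟙_ _ ⟶ X, y.left pt ∈ U ∧ y.left pt ∈ sm ∧ y.left pt ∈ V := by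
    intro V hV
    have h1 : ((U : Set X.left) ∩ (sm ∩ V : Set X.left)).Nonempty :=
      nonempty_preirreducible_inter U.isOpen (sm.isOpen.inter V.isOpen) ⟨_, heU⟩
        (nonempty_preirreducible_inter sm.isOpen V.isOpen hne hV)
    obtain ⟨q, hq, hqc⟩ := nonempty_inter_closedPoints h1 (U.isOpen.inter (sm.isOpen.inter V.isOpen)).isLocallyClosed
    obtain ⟨y, rfl⟩ := exists_point X q hqc
    exact ⟨y, hq.1, hq.2.1, hq.2.2⟩
  have he : e.left pt ∈ sm := by
    obtain ⟨y, hyU, hysm, -⟩ := hUsm ⊤ ⟨e.left pt, trivial⟩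
    refine (hinv y hyU (e.left pt)).1 ?_
    have : e ≫ lift (𝟙 X) (toUnit X ≫ y) ≫ m = y := by
      calc e ≫ lift (𝟙 X) (toUnit X ≫ y) ≫ m = y ≫ lift (toUnit X ≫ e) (𝟙 X) ≫ m := by
            simp only [← Category.assoc, comp_lift, Category.comp_id, comp_toUnit,
              toUnit_unique (toUnit (𝟙_ _)) (𝟙 _), Category.id_comp]
        _ = y := by rw [h₂, Category.comp_id]
    rw [← left_comp_apply, this]
    exact hysm
  have hswap : lift (𝟙 X) (toUnit X ≫ e) ≫ lift (snd X X) (fst X X) ≫ m = 𝟙 X := by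
    rw [comp_lift_assoc, lift_fst, lift_snd, h₂]
  have hsmooth : Smooth X.hom := by
    rw [← Scheme.Hom.smoothLocus_eq_top_iff, ← top_le_iff]
    by_contra hne'
    obtain ⟨x, -, hx⟩ := SetLike.not_le_iff_exists.1 hne'
    obtain ⟨q, hq, hqc⟩ := nonempty_inter_closedPoints (Z := (sm : Set X.left)ᶜ) ⟨x, hx⟩
      sm.isOpen.isClosed_compl.isLocallyClosed
    obtain ⟨w, rfl⟩ := exists_point X q hqc
    obtain ⟨-, hbs⟩ := finite_surjective_slice X e (lift (snd X X) (fst X X) ≫ m) hswap w
    set b := lift (𝟙 X) (toUnit X ≫ w) ≫ lift (snd X X) (fst X X) ≫ m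
    obtain ⟨x₀, hx₀⟩ := hbs.surj (e.left pt)
    obtain ⟨z, hzU, -, hzV⟩ := hUsm (b.left ⁻¹ᵁ sm) ⟨x₀, by show b.left x₀ ∈ sm; rw [hx₀]; exact he⟩
    refine hq ((hinv z hzU (w.left pt)).1 ?_)
    have : w ≫ lift (𝟙 X) (toUnit X ≫ z) ≫ m = z ≫ b := by
      simp only [b, ← Category.assoc, comp_lift, lift_fst, lift_snd, Category.comp_id, comp_toUnit,
        toUnit_unique (toUnit (𝟙_ _)) (𝟙 _), Category.id_comp]
    rw [← left_comp_apply, this, left_comp_apply]
    exact hzV
  haveI : Smooth (X ⊗ X).hom := inferInstanceAs (Smooth (pullback.fst X.hom X.hom ≫ X.hom))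
  refine Groth.Agent.S2347.result (fun p => ⟨SmoothReg17.isDomain_stalk (X ⊗ X).hom p,
    SmoothReg17.isIntegrallyClosed_stalk (X ⊗ X).hom p⟩) (shear m).left W
    (W.isOpen.dense ⟨_, hsliceall (e.left pt)⟩) (inv ((shear m).left ∣_ W) ≫ ((shear m).left ⁻¹ᵁ W).ι) ?_
  rw [Category.assoc, ← morphismRestrict_ι, IsIso.inv_hom_id_assoc]

end Groth.Agent.Unital
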