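import Groth.Agent.Lib.AbRigid.Basic
import Groth.Agent.Lib.RedSep.Basic
import Mathlib.AlgebraicGeometry.ZariskisMainTheorem
import Mathlib.AlgebraicGeometry.Morphisms.QuasiFinite
import Mathlib.AlgebraicGeometry.Morphisms.ClosedImmersion
import Mathlib.AlgebraicGeometry.AlgClosed.Basic
import Mathlib.Topology.NoetherianSpace

/-!
# Finiteness from closed points; the locus where a finite morphism onto a reduced scheme is an isomorphism
-/

open CategoryTheory Limits AlgebraicGeometry MonoidalCategory CartesianMonoidalCategory MonObj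

set_option linter.style.haveILetI false
set_option backward.isDefEq.respectTransparency false

namespace Groth.Agent.Unital

universe u

variable {K : Type u} [Field K] [IsAlgClosed K]

/-- A rational point at a closed point. -/
theorem exists_point (X : Over (Spec (CommRingCat.of K))) [LocallyOfFiniteType X.hom] (x : X.left)
    (hx : IsClosed ({x} : Set X.left)) :
    ∃ a : 𝟙_ (Over (Spec (CommRingCat.of K))) ⟶ X, a.left (IsLocalRing.closedPoint K) = x :=
  ⟨Over.homMk (pointOfClosedPoint X.hom x hx) (by simp), by simp⟩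

/-- A morphism from a reduced scheme constant on closed points is constant. -/
theorem eq_toUnit_comp_of_closedPoints (X Z : Over (Spec (CommRingCat.of K))) [LocallyOfFiniteType X.hom]
    [IsReduced X.left] [IsSeparated Z.hom] [LocallyOfFiniteType Z.hom] (h : X ⟶ Z) (z₀ : 𝟙_ (Over (Spec (CommRingCat.of K))) ⟶ Z)
    (hh : ∀ x ∈ closedPoints X.left, h.left x = z₀.left (IsLocalRing.closedPoint K)) : h = toUnit X ≫ z₀ := by
  haveI : JacobsonSpace X.left := LocallyOfFiniteType.jacobsonSpace (Y := Spec _) X.hom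
  ext1
  refine ext_of_fromSpecResidueField_eq _ _ Z.hom (closedPoints X.left) ?_ ?_
    ((Over.w _).trans (Over.w _).symm)
  · rw [dense_iff_closure_eq, ← Set.univ_inter (closedPoints X.left),
      JacobsonSpace.closure_inter_closedPoints_eq_closure isOpen_univ.isLocallyClosed, closure_univ]
  · intro p hp
    rw [← cancel_epi (Spec.map (residueFieldIsoBase X.hom p hp).hom)]
    obtain ⟨a, ha⟩ : ∃ a : 𝟙_ (Over (Spec (CommRingCat.of K))) ⟶ X,
        a.left = pointOfClosedPoint X.hom p hp :=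
      ⟨Over.homMk (pointOfClosedPoint X.hom p hp) (by simp), rfl⟩
    simp only [← Category.assoc, ← show a.left = Spec.map (residueFieldIsoBase X.hom p hp).hom ≫
      X.left.fromSpecResidueField p from ha]
    show (a ≫ h).left = (a ≫ toUnit X ≫ z₀).left
    rw [← Category.assoc, toUnit_unique (a ≫ toUnit X) (𝟙 _), Category.id_comp]
    refine ext_of_apply_closedPoint_eq (K := K) Z.hom (Over.w _) (Over.w _) ?_
    have hap : a.left (IsLocalRing.closedPoint K) = p := by rw [ha]; simp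
    rw [Over.comp_left, Scheme.Hom.comp_apply]
    exact (congrArg h.left hap).trans (hh p hp)

theorem isClosed_singleton_of_finite {α : Type*} [TopologicalSpace α] [JacobsonSpace α] {F : Set α}
    (hF : IsClosed F) (hfin : (F ∩ closedPoints α).Finite) : F.Finite ∧ ∀ x ∈ F, IsClosed ({x} : Set α) := by
  have hcl : IsClosed (F ∩ closedPoints α) := by
    rw [← Set.biUnion_of_singleton (F ∩ closedPoints α)]
    exact hfin.isClosed_biUnion fun x hx => hx.2
  have heq : F ∩ closedPoints α = F := by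
    rw [← hcl.closure_eq, JacobsonSpace.closure_inter_closedPoints_eq_closure hF.isLocallyClosed, hF.closure_eq]
  exact ⟨heq ▸ hfin, fun x hx => ((heq.symm ▸ hx : x ∈ F ∩ closedPoints α)).2⟩

/-- Finiteness can be tested at closed points. -/
theorem isFinite_of_closedPoints {A B : Over (Spec (CommRingCat.of K))} [IsProper A.hom] [IsProper B.hom]
    (f : A ⟶ B) (h : ∀ b ∈ closedPoints B.left, (f.left ⁻¹' {b} ∩ closedPoints A.left).Finite) :
    IsFinite f.left := by
  haveI : JacobsonSpace A.left := LocallyOfFiniteType.jacobsonSpace (Y := Spec _) A.hom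
  haveI : IsProper (f.left ≫ B.hom) := by rw [Over.w]; infer_instance
  haveI : IsProper f.left := .of_comp _ B.hom
  have hcl : ∀ x ∈ closedPoints A.left, f.left.QuasiFiniteAt x := by
    intro x hx
    have hb : IsClosed ({f.left x} : Set B.left) := by
      rw [← Set.image_singleton]; exact f.left.isClosedMap _ hx
    obtain ⟨hfin, hpts⟩ := isClosed_singleton_of_finite (hb.preimage f.left.continuous) (h _ hb)
    rw [Scheme.Hom.quasiFiniteAt_iff_isOpen_singleton_asFiber]
    haveI : Finite ↥(f.left ⁻¹' {f.left x}) := hfin.to_subtype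
    haveI : T1Space ↥(f.left ⁻¹' {f.left x}) := ⟨fun y => by
      have := (hpts y.1 y.2).preimage (continuous_subtype_val (p := fun a => a ∈ f.left ⁻¹' {f.left x}))
      have e : (Subtype.val ⁻¹' {y.1} : Set ↥(f.left ⁻¹' {f.left x})) = {y} := by
        ext z; simp [Subtype.ext_iff]
      rwa [e] at this⟩
    haveI : DiscreteTopology ↥(f.left ⁻¹' {f.left x}) := DiscreteTopology.of_finite_of_isClosed_singleton
      (fun y => isClosed_singleton)
    rw [← (f.left.fiberHomeo (f.left x)).isOpen_image]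
    exact isOpen_discrete _
  have hall : ∀ x, f.left.QuasiFiniteAt x := by
    by_contra hne
    push_neg at hne
    obtain ⟨x, hx⟩ := hne
    obtain ⟨q, hq, hqc⟩ := nonempty_inter_closedPoints (Z := {x | f.left.QuasiFiniteAt x}ᶜ) ⟨x, hx⟩
      f.left.isOpen_quasiFiniteAt.isClosed_compl.isLocallyClosed
    exact hq (hcl q hqc)
  haveI : LocallyQuasiFinite f.left := by
    rw [locallyQuasiFinite_iff_isDiscrete_preimage_singleton]
    intro b
    refine ⟨discreteTopology_iff_isOpen_singleton.2 fun ⟨x, hx⟩ => ?_⟩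
    obtain rfl : f.left x = b := hx
    have := Scheme.Hom.quasiFiniteAt_iff_isOpen_singleton_asFiber.1 (hall x)
    rw [← (f.left.fiberHomeo (f.left x)).isOpen_image] at this
    simpa [Scheme.Hom.asFiber] using this
  exact IsFinite.of_isProper_of_locallyQuasiFinite f.left

/-- Near a rational point with trivial fibre a finite surjection onto a reduced scheme is an isomorphism. -/
theorem exists_isIso_restrict {A B : Scheme.{u}} (f : A ⟶ B) [IsFinite f] [Surjective f] [IsReduced B]
    (π : B ⟶ Spec (CommRingCat.of K)) (b : Spec (CommRingCat.of K) ⟶ B) (hb : b ≫ π = 𝟙 _)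
    [IsIso (pullback.snd f b)] :
    ∃ V : B.Opens, b (IsLocalRing.closedPoint K) ∈ V ∧ IsIso (f ∣_ V) := by
  obtain ⟨U, hU, hbU, -⟩ := exists_isAffineOpen_mem_and_subset (X := B)
    (x := b (IsLocalRing.closedPoint K)) (U := ⊤) trivial
  have hfU : IsAffineOpen (f ⁻¹ᵁ U) := hU.preimage f
  have hall : ∀ z, b z ∈ U := fun z => by
    rw [Subsingleton.elim (α := PrimeSpectrum K) z (IsLocalRing.closedPoint K)]; exact hbU
  let p₁ := pullback.fst f b
  let p₂ := pullback.snd f b
  have hle : b ⁻¹ᵁ U = ⊤ := top_le_iff.1 fun z _ => hall z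
  have hle₁ : (⊤ : (pullback f b).Opens) ≤ p₁ ⁻¹ᵁ (f ⁻¹ᵁ U) := fun z _ => by
    show (p₁ ≫ f) z ∈ U
    rw [pullback.condition]; exact hall _
  have hsq := isIso_pushoutSection_of_isAffineOpen (IsPullback.of_hasPullback f b) (US := U) (UT := ⊤)
    (UX := f ⁻¹ᵁ U) (UY := ⊤) hle.ge le_rfl (by simp only [Scheme.Hom.preimage_top, inf_top_eq]; exact (top_le_iff.1 hle₁).symm) hU (isAffineOpen_top _) hfU
  replace hsq := (isIso_pushoutSection_iff _ _ _ _).mp hsq
  let φ := f.app U
  let ψ := b.appLE U ⊤ hle.ge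
  let P : Ideal Γ(B, U) := RingHom.ker ψ.hom
  have hψ : Function.Surjective ψ.hom := by
    intro c
    refine ⟨B.presheaf.map (homOfLE (le_top : U ≤ ⊤)).op (π.appTop c), ?_⟩
    show (π.appTop ≫ B.presheaf.map (homOfLE (le_top : U ≤ ⊤)).op ≫ ψ) c = c
    rw [Scheme.Hom.map_appLE, Scheme.Hom.appTop, Scheme.Hom.app_eq_appLE]
    show (π.appLE ⊤ ⊤ le_top ≫ b.appLE ⊤ ⊤ le_top) c = c
    rw [Scheme.Hom.appLE_comp_appLE]
    simp only [hb]
    simp [Scheme.Hom.appLE]
  -- `Γ(f⁻¹ U) = image + P`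
  have key : ∀ x : Γ(A, f ⁻¹ᵁ U), ∃ a : Γ(B, U), x - φ a ∈ P.map φ.hom := by
    intro x
    obtain ⟨c, hc⟩ := (ConcreteCategory.bijective_of_isIso p₂.appTop).2 (p₁.appLE (f ⁻¹ᵁ U) ⊤ hle₁ x)
    obtain ⟨a, ha⟩ := hψ c
    refine ⟨a, ?_⟩
    let J := P.map φ.hom
    let toQ : Γ(A, f ⁻¹ᵁ U) ⟶ CommRingCat.of (Γ(A, f ⁻¹ᵁ U) ⧸ J) := CommRingCat.ofHom (Ideal.Quotient.mk J)
    let fromK : Γ(Spec (CommRingCat.of K), ⊤) ⟶ CommRingCat.of (Γ(A, f ⁻¹ᵁ U) ⧸ J) := CommRingCat.ofHom
      ((Ideal.Quotient.lift P ((Ideal.Quotient.mk J).comp φ.hom) fun r hr =>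
        Ideal.Quotient.eq_zero_iff_mem.mpr (Ideal.mem_map_of_mem _ hr)).comp
          (RingHom.quotientKerEquivOfSurjective hψ).symm.toRingHom)
    have hψQ : ∀ r, fromK (ψ r) = Ideal.Quotient.mk J (φ r) := fun r => by
      simp only [fromK, CommRingCat.hom_ofHom, RingHom.comp_apply, RingEquiv.toRingHom_eq_coe, RingEquiv.coe_toRingHom]
      erw [show (RingHom.quotientKerEquivOfSurjective hψ).symm (ψ r) = Ideal.Quotient.mk P r from
        (RingHom.quotientKerEquivOfSurjective hψ).symm_apply_eq.2 rfl]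
      rfl
    have hw : f.appLE U (f ⁻¹ᵁ U) le_rfl ≫ toQ = ψ ≫ fromK := by
      ext r
      rw [← Scheme.Hom.app_eq_appLE]
      exact (hψQ r).symm
    have h1 := ConcreteCategory.congr_hom (hsq.inl_desc toQ fromK hw) x
    have h2 := ConcreteCategory.congr_hom (hsq.inr_desc toQ fromK hw) c
    have h3 : p₂.appLE ⊤ ⊤ le_top c = p₁.appLE (f ⁻¹ᵁ U) ⊤ hle₁ x := by
      rw [← hc, Scheme.Hom.appTop, Scheme.Hom.app_eq_appLE]
      rfl
    simp only [ConcreteCategory.comp_apply] at h1 h2
    rw [← h3, h2, ← ha, hψQ] at h1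
    exact Ideal.Quotient.eq.1 h1.symm
  letI := φ.hom.toAlgebra
  haveI : Module.Finite Γ(B, U) Γ(A, f ⁻¹ᵁ U) := IsFinite.finite_app f U hU
  let Q := Γ(A, f ⁻¹ᵁ U) ⧸ LinearMap.range (Algebra.linearMap Γ(B, U) Γ(A, f ⁻¹ᵁ U))
  have hQ : (⊤ : Submodule Γ(B, U) Q) ≤ P • ⊤ := by
    rintro q -
    obtain ⟨x, rfl⟩ := Submodule.mkQ_surjective _ q
    obtain ⟨a, ha⟩ := key x
    have h1 : x - φ a ∈ P • (⊤ : Submodule Γ(B, U) Γ(A, f ⁻¹ᵁ U)) := by
      rw [Ideal.smul_top_eq_map]; exact ha
    have h2 := Submodule.mem_map_of_mem (f := (LinearMap.range (Algebra.linearMap Γ(B, U) Γ(A, f ⁻¹ᵁ U))).mkQ) h1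
    rw [Submodule.map_smul'', map_sub] at h2
    have h3 : (LinearMap.range (Algebra.linearMap Γ(B, U) Γ(A, f ⁻¹ᵁ U))).mkQ (φ a) = 0 :=
      (Submodule.Quotient.mk_eq_zero _).2 ⟨a, rfl⟩
    rw [h3, sub_zero] at h2
    exact Submodule.smul_mono le_rfl le_top h2
  obtain ⟨r, hr, hr0⟩ := Submodule.exists_sub_one_mem_and_smul_eq_zero_of_fg_of_le_smul P ⊤
    Module.Finite.fg_top hQ
  let V := B.basicOpen r
  have hrψ : ψ r = 1 := by
    have : ψ.hom (r - 1) = 0 := hr
    rwa [map_sub, map_one, sub_eq_zero] at this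
  have hbV : b (IsLocalRing.closedPoint K) ∈ V := by
    have h1 : IsLocalRing.closedPoint K ∈ (Spec (CommRingCat.of K)).basicOpen (ψ r) := by
      rw [hrψ, Scheme.basicOpen_of_isUnit _ isUnit_one]
      trivial
    simp only [ψ, Scheme.Hom.appLE, ConcreteCategory.comp_apply, Scheme.basicOpen_res] at h1
    have h2 := h1.2
    rw [← Scheme.preimage_basicOpen] at h2
    exact h2
  refine ⟨V, hbV, ?_⟩
  have hV : IsAffineOpen V := hU.basicOpen r
  have hfV : f ⁻¹ᵁ V = A.basicOpen (φ r) := Scheme.preimage_basicOpen f r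
  have hsurj : Function.Surjective (f.app V).hom := by
    intro y
    haveI := hU.isLocalization_basicOpen r
    let y' := A.presheaf.map (eqToHom hfV.symm).op y
    haveI := hfU.isLocalization_basicOpen (φ r)
    obtain ⟨x, ⟨_, n, rfl⟩, hx⟩ := IsLocalization.exists_mk'_eq (Submonoid.powers (φ r)) y'
    obtain ⟨a, ha⟩ : ∃ a, φ a = φ r * x := by
      have := hr0 (Submodule.Quotient.mk x) trivial
      rw [← Submodule.Quotient.mk_smul, Submodule.Quotient.mk_eq_zero] at this
      exact this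
    -- `y = φ(a / r^(n+1))`
    let z : Γ(B, V) := IsLocalization.mk' Γ(B, V) a (⟨r ^ (n + 1), n + 1, rfl⟩ : Submonoid.powers r)
    refine ⟨z, (ConcreteCategory.bijective_of_isIso (A.presheaf.map (eqToHom hfV.symm).op)).1 ?_⟩
    show A.presheaf.map (eqToHom hfV.symm).op (f.app V z) = y'
    rw [← hx]
    let G : Γ(B, V) →+* Γ(A, A.basicOpen (φ r)) := (A.presheaf.map (eqToHom hfV.symm).op).hom.comp (f.app V).hom
    have hG : ∀ s : Γ(B, U), G (algebraMap Γ(B, U) Γ(B, V) s) = algebraMap Γ(A, f ⁻¹ᵁ U) _ (φ s) := fun s => by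
      show (B.presheaf.map (homOfLE (B.basicOpen_le r)).op ≫ f.app V ≫ A.presheaf.map (eqToHom hfV.symm).op) s =
        (φ ≫ A.presheaf.map (homOfLE (A.basicOpen_le (φ r))).op) s
      rw [f.naturality_assoc, ← Functor.map_comp]
      rfl
    show G z = _
    have h1 := congrArg G (IsLocalization.mk'_spec Γ(B, V) a (⟨r ^ (n + 1), n + 1, rfl⟩ : Submonoid.powers r))
    rw [map_mul, hG, hG, ha] at h1
    have hu : IsUnit (algebraMap Γ(A, f ⁻¹ᵁ U) Γ(A, A.basicOpen (φ r)) (φ (r ^ (n + 1)))) :=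
      IsLocalization.map_units _ (⟨φ (r ^ (n + 1)), n + 1, (map_pow φ.hom r (n + 1)).symm⟩ : Submonoid.powers (φ r))
    rw [← hu.mul_left_inj]
    refine h1.trans ?_
    have h2 := IsLocalization.mk'_spec Γ(A, A.basicOpen (φ r)) x (⟨φ r ^ n, n, rfl⟩ : Submonoid.powers (φ r))
    rw [map_pow, map_pow, pow_succ, map_mul, ← h2, map_pow]
    ring
  haveI : IsAffine V.toScheme := hV
  haveI : IsAffine (f ⁻¹ᵁ V).toScheme := hV.preimage f
  haveI : IsClosedImmersion (f ∣_ V) := IsClosedImmersion.of_surjective_of_isAffine _ (by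
    rw [morphismRestrict_appTop]
    intro y
    suffices hs2 : Function.Surjective (f.app (V.ι ''ᵁ ⊤)).hom by
      obtain ⟨y', hy'⟩ := (ConcreteCategory.bijective_of_isIso (A.presheaf.map (eqToHom (image_morphismRestrict_preimage f V ⊤)).op)).2 y
      obtain ⟨z, hz⟩ := hs2 y'
      exact ⟨z, by rw [ConcreteCategory.comp_apply]; exact (congrArg _ hz).trans hy'⟩
    have hs' : Function.Surjective (f.app (V.ι ''ᵁ ⊤)).hom := by rw [Scheme.Opens.ι_image_top]; exact hsurj
    exact hs')
  haveI : Surjective (f ∣_ V) := IsZariskiLocalAtTarget.restrict (P := @Surjective) inferInstance V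
  exact isIso_of_isClosedImmersion_of_surjective _

end Groth.Agent.Unital
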